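import Groth.Agent.Lib.KoszulTensor.Basic
import Groth.Agent.Lib.DCxKFlat.TensorSymm
import Mathlib.Algebra.Homology.BifunctorHomotopy
import Mathlib.Algebra.Homology.HomotopyCategory.HomComplexShift
import Mathlib.Algebra.Homology.HomotopyCategory.ShiftSequence
import Mathlib.Algebra.Category.ModuleCat.Biproducts
import Mathlib.LinearAlgebra.Pi
import Mathlib.Data.Nat.Choose.Basic

/-! # Adjoining redundant elements to a Koszul complex -/

set_option autoImplicit false
universe u

open CategoryTheory CategoryTheory.Limits MonoidalCategory HomologicalComplex CochainComplex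
open CochainComplex.HomComplex

namespace GrothLib.KoszulTensor

variable {A : Type u} [CommRing A]

/-- `a` acts null-homotopically on the cone of `a`. -/
theorem nonempty_homotopy_head (a : A) (K : CochainComplex (ModuleCat.{u} A) ℤ) :
    Nonempty (Homotopy (a • 𝟙 (mappingCone (a • 𝟙 K))) 0) := by
  refine ⟨(Cochain.equivHomotopy _ _).symm
    ⟨((mappingCone.snd (a • 𝟙 K)).comp (mappingCone.inl (a • 𝟙 K)) (zero_add (-1))), ?_⟩⟩
  rw [Cochain.ofHom_zero, add_zero, δ_zero_cochain_comp _ _ 0 (by omega), mappingCone.δ_inl,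
    mappingCone.δ_snd, Int.negOnePow_neg, Int.negOnePow_one]
  refine Cochain.ext₀ _ _ fun n => ?_
  rw [mappingCone.ext_from_iff _ (n + 1) n rfl]
  constructor <;> simp [Cochain.comp_v _ _ (add_neg_cancel (1 : ℤ)) n (n + 1) n rfl (by omega),
    Cochain.comp_v _ _ (show (1 : ℤ) + -1 = 0 by omega) n (n + 1) n rfl (by omega)]

/-- Homotopies may be tensored. -/
theorem nonempty_homotopy_tensor (K L : DRing.Cx A) (a : A) (h : Homotopy (a • 𝟙 L) 0) :
    Nonempty (Homotopy (a • 𝟙 (K ⊗ L : DRing.Cx A)) 0) := by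
  have hh := HomologicalComplex.mapBifunctorMapHomotopy₂ (𝟙 K) h (curriedTensor (ModuleCat.{u} A))
    (ComplexShape.up ℤ)
  refine ⟨(Homotopy.ofEq ?_).trans (hh.trans (Homotopy.ofEq ?_))⟩
  · refine HomologicalComplex.hom_ext _ _ fun n => HomologicalComplex.mapBifunctor.hom_ext fun p q h => ?_
    rw [HomologicalComplex.ι_mapBifunctorMap]
    simp
    rfl
  · refine HomologicalComplex.hom_ext _ _ fun n => HomologicalComplex.mapBifunctor.hom_ext fun p q h => ?_
    rw [HomologicalComplex.ι_mapBifunctorMap]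
    simp

/-- An element of the list acts null-homotopically. -/
theorem nonempty_homotopy_of_mem : ∀ (l : List A) (a : A), a ∈ l →
    Nonempty (Homotopy (a • 𝟙 (Koszul.koszul A l)) 0)
  | b :: l, a, h => by
    by_cases hab : a = b
    · subst hab
      exact nonempty_homotopy_head a _
    · obtain ⟨H⟩ := nonempty_homotopy_of_mem l a ((List.mem_cons.1 h).resolve_left hab)
      obtain ⟨e⟩ := nonempty_iso A l [b]
      obtain ⟨H'⟩ := nonempty_homotopy_tensor (Koszul.koszul A [b]) (Koszul.koszul A l) a H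
      exact ⟨(Homotopy.ofEq (by simp)).trans (((H'.compLeft e.inv).compRight e.hom).trans (Homotopy.ofEq (by simp)))⟩

/-- So does every element of the ideal they span. -/
theorem nonempty_homotopy_of_mem_span (l : List A) {a : A} (ha : a ∈ Ideal.span {b | b ∈ l}) :
    Nonempty (Homotopy (a • 𝟙 (Koszul.koszul A l)) 0) := by
  induction ha using Submodule.span_induction with
  | mem x hx => exact nonempty_homotopy_of_mem l x hx
  | zero => exact ⟨Homotopy.ofEq (zero_smul A _)⟩
  | add x y _ _ hx hy =>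
    exact hx.elim fun h => hy.elim fun h' =>
      ⟨(Homotopy.ofEq (add_smul x y _)).trans ((h.add h').trans (Homotopy.ofEq (add_zero _)))⟩
  | smul r x _ hx =>
    exact hx.elim fun h =>
      ⟨(Homotopy.ofEq (by rw [smul_eq_mul, mul_smul])).trans ((h.smul r).trans (Homotopy.ofEq (smul_zero _)))⟩

section ConeSplit

variable {C : CochainComplex (ModuleCat.{u} A) ℤ} (g : C ⟶ C) (h : Homotopy g 0)

/-- The cocycle lifting the shifted copy. -/
noncomputable def splitCocycle : Cocycle C (mappingCone g) (-1) :=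
  Cocycle.mk (mappingCone.inl g - (Cochain.ofHomotopy h).comp (Cochain.ofHom (mappingCone.inr g)) (add_zero (-1)))
    0 (neg_add_cancel 1) (by
      rw [δ_sub, δ_comp_zero_cochain _ _ 0 (by omega), δ_ofHom, δ_ofHomotopy, mappingCone.δ_inl]
      simp [Cochain.ofHom_comp])

/-- The lift of the shifted copy. -/
noncomputable def splitShift : C⟦(1 : ℤ)⟧ ⟶ mappingCone g :=
  Cocycle.homOf ((splitCocycle g h).leftShift 1 0 (by omega))

lemma splitShift_f (n : ℤ) : (splitShift g h).f n =
    (C.shiftFunctorObjXIso 1 n (n + 1) rfl).hom ≫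
      ((mappingCone.inl g).v (n + 1) n (by omega) -
        (Cochain.ofHomotopy h).v (n + 1) n (by omega) ≫ (mappingCone.inr g).f n) := by
  simp [splitShift, splitCocycle, Cochain.leftShift_v _ 1 0 (show (-1 : ℤ) + 1 = 0 by omega) n n (by omega)
    (n + 1) (by omega)]
  all_goals rfl

/-- The map from the direct sum. -/
noncomputable def splitMap : (C⟦(1 : ℤ)⟧) ⊞ C ⟶ mappingCone g :=
  biprod.desc (splitShift g h) (mappingCone.inr g)

/-- The inclusion of the shifted summand in each degree. -/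
noncomputable def inlN (n : ℤ) : C.X (n + 1) ⟶ ((C⟦(1 : ℤ)⟧) ⊞ C).X n :=
  (C.shiftFunctorObjXIso 1 n (n + 1) rfl).inv ≫ (biprod.inl : C⟦(1 : ℤ)⟧ ⟶ (C⟦(1 : ℤ)⟧) ⊞ C).f n

lemma shift_inlN (n : ℤ) : (C.shiftFunctorObjXIso 1 n (n + 1) rfl).hom ≫ inlN n =
    (biprod.inl : C⟦(1 : ℤ)⟧ ⟶ (C⟦(1 : ℤ)⟧) ⊞ C).f n :=
  Iso.hom_inv_id_assoc _ _

/-- Its inverse in each degree. -/
noncomputable def splitBack (n : ℤ) : (mappingCone g).X n ⟶ ((C⟦(1 : ℤ)⟧) ⊞ C).X n :=
  (mappingCone.fst g).1.v n (n + 1) rfl ≫ inlN n +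
    ((mappingCone.snd g).v n n (add_zero n) +
      (mappingCone.fst g).1.v n (n + 1) rfl ≫ (Cochain.ofHomotopy h).v (n + 1) n (by omega)) ≫
        (biprod.inr : C ⟶ (C⟦(1 : ℤ)⟧) ⊞ C).f n

lemma inl_splitMap_f (n : ℤ) :
    (biprod.inl : C⟦(1 : ℤ)⟧ ⟶ (C⟦(1 : ℤ)⟧) ⊞ C).f n ≫ (splitMap g h).f n = (splitShift g h).f n := by
  rw [← HomologicalComplex.comp_f, splitMap, biprod.inl_desc]

lemma inr_splitMap_f (n : ℤ) :
    (biprod.inr : C ⟶ (C⟦(1 : ℤ)⟧) ⊞ C).f n ≫ (splitMap g h).f n = (mappingCone.inr g).f n := by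
  rw [← HomologicalComplex.comp_f, splitMap, biprod.inr_desc]

lemma inlN_splitMap_f (n : ℤ) : inlN n ≫ (splitMap g h).f n =
    (mappingCone.inl g).v (n + 1) n (by omega) -
      (Cochain.ofHomotopy h).v (n + 1) n (by omega) ≫ (mappingCone.inr g).f n := by
  rw [inlN, Category.assoc, inl_splitMap_f, splitShift_f, Iso.inv_hom_id_assoc]

lemma splitBack_map (n : ℤ) : splitBack g h n ≫ (splitMap g h).f n = 𝟙 _ := by
  refine mappingCone.ext_from _ (n + 1) n rfl ?_ ?_ <;>
  simp [splitBack, inlN_splitMap_f, inr_splitMap_f]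

lemma inl_part_back (n : ℤ) :
    ((mappingCone.inl g).v (n + 1) n (by omega) -
      (Cochain.ofHomotopy h).v (n + 1) n (by omega) ≫ (mappingCone.inr g).f n) ≫ splitBack g h n = inlN n := by
  simp [splitBack, Preadditive.sub_comp]

lemma inr_part_back (n : ℤ) : (mappingCone.inr g).f n ≫ splitBack g h n =
    (biprod.inr : C ⟶ (C⟦(1 : ℤ)⟧) ⊞ C).f n := by
  simp [splitBack]

lemma splitMap_back (n : ℤ) : (splitMap g h).f n ≫ splitBack g h n = 𝟙 _ := by
  have ht : (biprod.fst : (C⟦(1 : ℤ)⟧) ⊞ C ⟶ _).f n ≫ (biprod.inl : C⟦(1 : ℤ)⟧ ⟶ (C⟦(1 : ℤ)⟧) ⊞ C).f n +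
      (biprod.snd : (C⟦(1 : ℤ)⟧) ⊞ C ⟶ _).f n ≫ (biprod.inr : C ⟶ (C⟦(1 : ℤ)⟧) ⊞ C).f n = 𝟙 _ := by
    rw [← HomologicalComplex.comp_f, ← HomologicalComplex.comp_f, ← HomologicalComplex.add_f_apply,
      biprod.total, HomologicalComplex.id_f]
  rw [← Category.id_comp ((splitMap g h).f n), ← ht, Preadditive.add_comp, Category.assoc, Category.assoc,
    inl_splitMap_f, inr_splitMap_f, splitShift_f, Preadditive.add_comp]
  simp only [Category.assoc, inl_part_back, inr_part_back, shift_inlN]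

include h in
theorem nonempty_homology_cone (n : ℤ) :
    Nonempty ((mappingCone g).homology n ≅ ModuleCat.of A (↥(C.homology (n + 1)) × ↥(C.homology n))) := by
  let e : (C⟦(1 : ℤ)⟧) ⊞ C ≅ mappingCone g := HomologicalComplex.Hom.isoOfComponents
    (fun n => { hom := (splitMap g h).f n, inv := splitBack g h n,
                hom_inv_id := splitMap_back g h n, inv_hom_id := splitBack_map g h n })
    fun i j _ => (splitMap g h).comm i j
  let F := HomologicalComplex.homologyFunctor (ModuleCat.{u} A) (ComplexShape.up ℤ) n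
  haveI := preservesBinaryBiproducts_of_preservesBiproducts F
  exact ⟨F.mapIso e.symm ≪≫ F.mapBiprod _ _ ≪≫
    biprod.mapIso (((HomologicalComplex.homologyFunctor (ModuleCat.{u} A) (ComplexShape.up ℤ) 0).shiftIso 1 n (n + 1)
      (by omega)).app C) (Iso.refl _) ≪≫ ModuleCat.biprodIsoProd _ _⟩

end ConeSplit

section Pascal

/-- The summands after `n` steps. -/
abbrev Idx (n : ℕ) : Type := Σ j : Fin (n + 1), Fin (n.choose j)

/-- The degree of a summand. -/
def deg {n : ℕ} (p : Idx n) : ℕ := p.1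

lemma card_deg (n k : ℕ) : Nat.card {p : Idx n // deg p = k} = n.choose k := by
  by_cases hk : k ≤ n
  · refine (Nat.card_congr
      { toFun := fun p => Fin.cast (congrArg n.choose p.2) p.1.2
        invFun := fun i => ⟨⟨⟨k, by omega⟩, i⟩, rfl⟩
        left_inv := ?_
        right_inv := fun i => rfl }).trans (Nat.card_fin _)
    rintro ⟨⟨⟨j, hj⟩, i⟩, rfl⟩
    rfl
  · haveI : IsEmpty {p : Idx n // deg p = k} := ⟨fun p => hk (by
      have := p.1.1.2
      have := p.2
      simp only [deg] at this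
      omega)⟩
    rw [Nat.card_of_isEmpty, Nat.choose_eq_zero_of_lt (by omega)]

lemma exists_pascal (n : ℕ) : ∃ e : Idx n ⊕ Idx n ≃ Idx (n + 1),
    ∀ p, deg (e p) = Sum.elim (fun p => deg p + 1) deg p := by
  have hc : ∀ k, Nat.card {p : Idx n ⊕ Idx n // Sum.elim (fun p => deg p + 1) deg p = k} =
      Nat.card {p : Idx (n + 1) // deg p = k} := by
    intro k
    rw [Nat.card_congr Equiv.subtypeSum, Nat.card_sum, card_deg (n + 1)]
    simp only [Sum.elim_inl, Sum.elim_inr]
    rw [card_deg n k]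
    rcases k with _ | k
    · haveI : IsEmpty {p : Idx n // deg p + 1 = 0} := ⟨fun p => Nat.succ_ne_zero _ p.2⟩
      simp
    · rw [Nat.card_congr (Equiv.subtypeEquivRight fun p => Nat.succ_inj), card_deg, Nat.choose_succ_succ]
  exact ⟨Equiv.ofFiberEquiv fun k => (Finite.card_eq.1 (hc k)).some, fun p => Equiv.ofFiberEquiv_map _ p⟩

variable (N : ℤ → ModuleCat.{u} A)

/-- Transport along an equality of degrees. -/
noncomputable def castN {i j : ℤ} (h : i = j) : N i ≃ₗ[A] N j := (eqToIso (congrArg N h)).toLinearEquiv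

lemma nonempty_pascal (n : ℕ) (m : ℤ) :
    Nonempty ((((p : Idx n) → N (m + 1 + deg p)) × ((p : Idx n) → N (m + deg p))) ≃ₗ[A]
      ((p : Idx (n + 1)) → N (m + deg p))) := by
  obtain ⟨e, he⟩ := exists_pascal n
  exact ⟨((LinearEquiv.piCongrRight fun p : Idx n =>
      castN N (show m + 1 + (deg p : ℤ) = m + deg (e (Sum.inl p)) by simp [he]; omega)).prodCongr
    (LinearEquiv.piCongrRight fun p : Idx n =>
      castN N (show m + (deg p : ℤ) = m + deg (e (Sum.inr p)) by simp [he]))) ≪≫ₗ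
    (LinearEquiv.sumPiEquivProdPi A (Idx n) (Idx n) fun s => N (m + deg (e s))).symm ≪≫ₗ
    LinearEquiv.piCongrLeft A (fun p => N (m + deg p)) e⟩

end Pascal

theorem nonempty_homology_prepend (M : ModuleCat.{u} A) (xs : List A) : ∀ ys : List A,
    (∀ y ∈ ys, y ∈ Ideal.span {a | a ∈ xs}) → ∀ m : ℤ,
    Nonempty (↥((DRing.tensorCx (Koszul.koszul A (ys ++ xs)) M).homology m) ≃ₗ[A]
      ((p : Idx ys.length) → ↥((DRing.tensorCx (Koszul.koszul A xs) M).homology (m + deg p))))
  | [], _, m => by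
    haveI : Unique (Idx ([] : List A).length) :=
      { default := ⟨⟨0, Nat.succ_pos _⟩, ⟨0, Nat.one_pos⟩⟩
        uniq := fun ⟨⟨j, hj⟩, ⟨i, hi⟩⟩ => by
          simp at hj
          subst hj
          simp at hi
          subst hi
          rfl }
    exact ⟨(castN (fun i => (DRing.tensorCx (Koszul.koszul A xs) M).homology i)
      (show m = m + (deg (default : Idx ([] : List A).length) : ℤ) by
        have h0 : deg (default : Idx ([] : List A).length) = 0 := by
          have := (default : Idx ([] : List A).length).1.2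
          simp only [List.length_nil] at this
          simp only [deg]; omega
        rw [h0, Nat.cast_zero, add_zero])) ≪≫ₗ
      (LinearEquiv.piUnique A fun p : Idx ([] : List A).length =>
        ↥((DRing.tensorCx (Koszul.koszul A xs) M).homology (m + deg p))).symm⟩
  | y :: ys, hy, m => by
    have hy' : y ∈ Ideal.span {a | a ∈ ys ++ xs} :=
      Ideal.span_mono (fun a ha => List.mem_append_right ys ha) (hy y List.mem_cons_self)
    obtain ⟨H⟩ := nonempty_homotopy_of_mem_span (ys ++ xs) hy'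
    let F : ModuleCat.{u} A ⥤ ModuleCat.{u} A := tensorRight M
    let H' := F.mapHomotopy H
    obtain ⟨e⟩ := nonempty_homology_cone
      ((F.mapHomologicalComplex (ComplexShape.up ℤ)).map (y • 𝟙 (Koszul.koszul A (ys ++ xs))))
      (H'.trans (Homotopy.ofEq (Functor.map_zero _ _ _))) m
    have ih := nonempty_homology_prepend M xs ys (fun z hz => hy z (List.mem_cons_of_mem _ hz))
    obtain ⟨e₁⟩ := ih (m + 1)
    obtain ⟨e₂⟩ := ih m
    obtain ⟨P⟩ := nonempty_pascal (fun i => (DRing.tensorCx (Koszul.koszul A xs) M).homology i) ys.length m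
    exact ⟨((HomologicalComplex.homologyFunctor _ _ m).mapIso
      (mappingCone.mapHomologicalComplexIso (y • 𝟙 (Koszul.koszul A (ys ++ xs))) F) ≪≫ e).toLinearEquiv ≪≫ₗ
      e₁.prodCongr e₂ ≪≫ₗ P⟩

theorem nonempty_swap (f g : List A) : Nonempty (Koszul.koszul A (f ++ g) ≅ Koszul.koszul A (g ++ f)) := by
  obtain ⟨e₁⟩ := nonempty_iso A g f
  obtain ⟨e₂⟩ := nonempty_iso A f g
  exact ⟨e₁.symm ≪≫ KF.tensorCxSymm (Koszul.koszul A g) (Koszul.koszul A f) ≪≫ e₂⟩

theorem nonempty_homology_append (M : ModuleCat.{u} A) (xs ys : List A)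
    (hy : ∀ y ∈ ys, y ∈ Ideal.span {a | a ∈ xs}) (m : ℤ) :
    Nonempty ((DRing.tensorCx (Koszul.koszul A (xs ++ ys)) M).homology m ≅
      ModuleCat.of A ((j : Fin (ys.length + 1)) → Fin (ys.length.choose j) →
        (DRing.tensorCx (Koszul.koszul A xs) M).homology (m + j))) := by
  obtain ⟨s⟩ := nonempty_swap xs ys
  obtain ⟨e⟩ := nonempty_homology_prepend M xs ys hy m
  exact ⟨(HomologicalComplex.homologyFunctor _ _ m).mapIso
      (((tensorRight M).mapHomologicalComplex (ComplexShape.up ℤ)).mapIso s) ≪≫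
    (e ≪≫ₗ LinearEquiv.piCurry A (fun (j : Fin (ys.length + 1)) (_ : Fin (ys.length.choose j)) =>
      ↥((DRing.tensorCx (Koszul.koszul A xs) M).homology (m + j)))).toModuleIso⟩

end GrothLib.KoszulTensor
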