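import Groth.Prelude.Def_Koszul
import Groth.Prelude.Def_DTen
import Mathlib.Algebra.Homology.Monoidal

/-! # The tensor product of two Koszul complexes -/

set_option autoImplicit false
universe u

open CategoryTheory CategoryTheory.Limits MonoidalCategory HomologicalComplex CochainComplex
open CochainComplex.HomComplex

namespace GrothLib.KoszulTensor

variable {A : Type u} [CommRing A] (K L : DRing.Cx A) (a : A)

/-- The inclusion of a summand. -/
noncomputable abbrev ι (K : DRing.Cx A) (p q n : ℤ) (h : p + q = n) :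
    K.X p ⊗ L.X q ⟶ (K ⊗ L).X n :=
  HomologicalComplex.ιTensorObj K L p q n h

/-- The cochain of degree `-1` into the tensor product with a cone. -/
noncomputable def α : Cochain (K ⊗ L) (mappingCone (a • 𝟙 K) ⊗ L) (-1) :=
  Cochain.mk fun n m hnm => HomologicalComplex.mapBifunctorDesc fun p q h =>
    (mappingCone.inl (a • 𝟙 K)).v p (p - 1) (by omega) ▷ L.X q ≫
      ι L _ (p - 1) q m (by have h' : p + q = n := h; omega)

lemma ι_α (p p' q n m : ℤ) (h : p + q = n) (hnm : n + -1 = m) (hp : p + -1 = p') :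
    ι L K p q n h ≫ (α K L a).v n m hnm =
      (mappingCone.inl (a • 𝟙 K)).v p p' hp ▷ L.X q ≫ ι L _ p' q m (by omega) := by
  obtain rfl : p' = p - 1 := by omega
  simp only [α, Cochain.mk_v]
  exact HomologicalComplex.ι_mapBifunctorDesc ..

lemma ι_d (M : DRing.Cx A) (p p' q n m : ℤ) (h : p + q = n) (hnm : n + 1 = m) (hp : p + 1 = p') :
    ι L M p q n h ≫ (M ⊗ L).d n m =
      M.d p p' ▷ L.X q ≫ ι L M p' q m (by omega) +
        p.negOnePow • (M.X p ◁ L.d q (q + 1) ≫ ι L M p (q + 1) m (by omega)) := by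
  subst hp
  change HomologicalComplex.ιMapBifunctor M L (curriedTensor _) (ComplexShape.up ℤ) p q n h ≫
    (HomologicalComplex.mapBifunctor M L (curriedTensor _) (ComplexShape.up ℤ)).d n m = _
  simp only [mapBifunctor.d_eq, Preadditive.comp_add, mapBifunctor.ι_D₁, mapBifunctor.ι_D₂]
  rw [mapBifunctor.d₁_eq M L (curriedTensor _) (ComplexShape.up ℤ) (show (ComplexShape.up ℤ).Rel p (p + 1) from rfl)
      q m (show p + 1 + q = m by omega),
    mapBifunctor.d₂_eq M L (curriedTensor _) (ComplexShape.up ℤ) p (show (ComplexShape.up ℤ).Rel q (q + 1) from rfl)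
      m (show p + (q + 1) = m by omega)]
  simp

/-- The image of the second summand of the cone. -/
noncomputable def β : K ⊗ L ⟶ mappingCone (a • 𝟙 K) ⊗ L := mappingCone.inr (a • 𝟙 K) ▷ L

lemma ι_β (p q n : ℤ) (h : p + q = n) :
    ι L K p q n h ≫ (β K L a).f n = (mappingCone.inr (a • 𝟙 K)).f p ▷ L.X q ≫ ι L _ p q n h := by
  change HomologicalComplex.ιMapBifunctor K L (curriedTensor _) (ComplexShape.up ℤ) p q n h ≫
    (HomologicalComplex.mapBifunctorMap _ _ (curriedTensor _) (ComplexShape.up ℤ)).f n = _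
  rw [HomologicalComplex.ι_mapBifunctorMap]
  simp

lemma δ_α : δ (-1) 0 (α K L a) = Cochain.ofHom ((a • 𝟙 (K ⊗ L)) ≫ β K L a) := by
  refine Cochain.ext₀ _ _ fun n => HomologicalComplex.mapBifunctor.hom_ext fun p q h => ?_
  have h' : p + q = n := h
  rw [Cochain.ofHom_v, δ_v (-1) 0 (by omega) _ n n (by omega) (n - 1) (n + 1) rfl rfl]
  change ι L K p q n h' ≫ _ = ι L K p q n h' ≫ _
  simp only [Preadditive.comp_add, Int.negOnePow_zero, one_smul, HomologicalComplex.comp_f,
    HomologicalComplex.smul_f_apply, HomologicalComplex.id_f, Linear.smul_comp, Category.id_comp,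
    Linear.comp_smul, ι_β]
  rw [← Category.assoc, ι_α K L a p (p - 1) q n (n - 1) h' (by omega) (by omega), Category.assoc,
    ι_d L _ (p - 1) p q (n - 1) n (by omega) (by omega) (by omega),
    reassoc_of% (ι_d L K p (p + 1) q n (n + 1) h' rfl rfl)]
  simp only [Preadditive.add_comp, Preadditive.comp_add, Category.assoc, Linear.units_smul_comp,
    Linear.comp_units_smul, ι_α K L a (p + 1) p q (n + 1) n (by omega) (by omega) (by omega),
    ι_α K L a p (p - 1) (q + 1) (n + 1) n (by omega) (by omega) (by omega)]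
  have hneg : (p - 1).negOnePow = -p.negOnePow := by
    rw [Int.negOnePow_sub, Int.negOnePow_one, mul_neg, mul_one]
  rw [hneg]
  have hex : (mappingCone.inl (a • 𝟙 K)).v p (p - 1) (by omega) ▷ L.X q ≫
        (mappingCone (a • 𝟙 K)).X (p - 1) ◁ L.d q (q + 1) =
      K.X p ◁ L.d q (q + 1) ≫ (mappingCone.inl (a • 𝟙 K)).v p (p - 1) (by omega) ▷ L.X (q + 1) :=
    (whisker_exchange _ _).symm
  simp only [reassoc_of% hex, neg_smul, Units.neg_smul]
  have hd : (mappingCone.inl (a • 𝟙 K)).v p (p - 1) (by omega) ≫ (mappingCone (a • 𝟙 K)).d (p - 1) p +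
      K.d p (p + 1) ≫ (mappingCone.inl (a • 𝟙 K)).v (p + 1) p (by omega) =
      a • (mappingCone.inr (a • 𝟙 K)).f p := by
    rw [mappingCone.inl_v_d (a • 𝟙 K) p (p - 1) (p + 1) (by omega) (by omega)]
    simp
  have hd' := congrArg (fun t => t ▷ L.X q ≫ ι L (mappingCone (a • 𝟙 K)) p q n h') hd
  simp only [MonoidalPreadditive.add_whiskerRight, Preadditive.add_comp, MonoidalLinear.smul_whiskerRight,
    Linear.smul_comp, comp_whiskerRight, Category.assoc] at hd'
  rw [← hd']
  abel

/-- The comparison map. -/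
noncomputable def compare : mappingCone (a • 𝟙 (K ⊗ L)) ⟶ mappingCone (a • 𝟙 K) ⊗ L :=
  mappingCone.desc _ (α K L a) (β K L a) (δ_α K L a)

/-- Its inverse in each degree. -/
noncomputable def back (n : ℤ) :
    (mappingCone (a • 𝟙 K) ⊗ L).X n ⟶ (mappingCone (a • 𝟙 (K ⊗ L))).X n :=
  HomologicalComplex.mapBifunctorDesc fun p q h =>
    (mappingCone.fst (a • 𝟙 K)).1.v p (p + 1) rfl ▷ L.X q ≫
        ι L K (p + 1) q (n + 1) (by have h' : p + q = n := h; omega) ≫
          (mappingCone.inl (a • 𝟙 (K ⊗ L))).v (n + 1) n (by omega) +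
      (mappingCone.snd (a • 𝟙 K)).v p p (add_zero p) ▷ L.X q ≫
        ι L K p q n h ≫ (mappingCone.inr (a • 𝟙 (K ⊗ L))).f n

lemma ι_back (p q n : ℤ) (h : p + q = n) :
    ι L (mappingCone (a • 𝟙 K)) p q n h ≫ back K L a n =
      (mappingCone.fst (a • 𝟙 K)).1.v p (p + 1) rfl ▷ L.X q ≫
        ι L K (p + 1) q (n + 1) (by omega) ≫
          (mappingCone.inl (a • 𝟙 (K ⊗ L))).v (n + 1) n (by omega) +
      (mappingCone.snd (a • 𝟙 K)).v p p (add_zero p) ▷ L.X q ≫
        ι L K p q n h ≫ (mappingCone.inr (a • 𝟙 (K ⊗ L))).f n :=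
  HomologicalComplex.ι_mapBifunctorDesc ..

lemma back_compare (n : ℤ) : back K L a n ≫ (compare K L a).f n = 𝟙 _ := by
  refine HomologicalComplex.mapBifunctor.hom_ext fun p q h => ?_
  have h' : p + q = n := h
  change ι L (mappingCone (a • 𝟙 K)) p q n h' ≫ _ = ι L (mappingCone (a • 𝟙 K)) p q n h' ≫ _
  rw [reassoc_of% (ι_back K L a p q n h'), Category.comp_id]
  simp only [Preadditive.add_comp, Category.assoc, compare, mappingCone.inl_v_desc_f,
    mappingCone.inr_f_desc_f, ι_β, ι_α K L a (p + 1) p q (n + 1) n (by omega) (by omega) (by omega)]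
  have hid := congrArg (fun t => t ▷ L.X q ≫ ι L (mappingCone (a • 𝟙 K)) p q n h')
    (mappingCone.id_X (a • 𝟙 K) p (p + 1) rfl)
  simp only [MonoidalPreadditive.add_whiskerRight, Preadditive.add_comp, comp_whiskerRight, Category.assoc,
    id_whiskerRight, Category.id_comp] at hid
  exact hid

lemma compare_back (n : ℤ) : (compare K L a).f n ≫ back K L a n = 𝟙 _ := by
  refine mappingCone.ext_from _ (n + 1) n rfl ?_ ?_
  · rw [compare, mappingCone.inl_v_desc_f_assoc, Category.comp_id]
    refine HomologicalComplex.mapBifunctor.hom_ext fun p q h => ?_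
    have h' : p + q = n + 1 := h
    change ι L K p q (n + 1) h' ≫ _ = ι L K p q (n + 1) h' ≫ _
    obtain ⟨r, rfl⟩ : ∃ r, p = r + 1 := ⟨p - 1, by omega⟩
    rw [reassoc_of% (ι_α K L a (r + 1) r q (n + 1) n h' (by omega) (by omega)), ι_back K L a r q n (by omega),
      Preadditive.comp_add, ← comp_whiskerRight_assoc, ← comp_whiskerRight_assoc]
    have ef : (mappingCone.inl (a • 𝟙 K)).v (r + 1) r (by omega) ≫
        (mappingCone.fst (a • 𝟙 K)).1.v r (r + 1) rfl = 𝟙 _ := mappingCone.inl_v_fst_v ..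
    have es : (mappingCone.inl (a • 𝟙 K)).v (r + 1) r (by omega) ≫
        (mappingCone.snd (a • 𝟙 K)).v r r (add_zero r) = 0 := mappingCone.inl_v_snd_v ..
    rw [ef, es]
    simp
  · rw [compare, mappingCone.inr_f_desc_f_assoc, Category.comp_id]
    refine HomologicalComplex.mapBifunctor.hom_ext fun p q h => ?_
    have h' : p + q = n := h
    change ι L K p q n h' ≫ _ = ι L K p q n h' ≫ _
    rw [reassoc_of% (ι_β K L a p q n h'), ι_back K L a p q n h', Preadditive.comp_add,
      ← comp_whiskerRight_assoc, ← comp_whiskerRight_assoc, mappingCone.inr_f_fst_v,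
      mappingCone.inr_f_snd_v]
    simp

/-- A cone of a scalar commutes with the tensor product. -/
noncomputable def coneTensorIso : mappingCone (a • 𝟙 K) ⊗ L ≅ mappingCone (a • 𝟙 (K ⊗ L)) :=
  (HomologicalComplex.Hom.isoOfComponents
    (fun n => ({ hom := (compare K L a).f n, inv := back K L a n,
                 hom_inv_id := compare_back K L a n, inv_hom_id := back_compare K L a n } :
      (mappingCone (a • 𝟙 (K ⊗ L))).X n ≅ (mappingCone (a • 𝟙 K) ⊗ L).X n))
    fun i j _ => (compare K L a).comm i j).symm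

theorem nonempty_iso (A : Type u) [CommRing A] (g : List A) : ∀ f : List A,
    Nonempty ((Koszul.koszul A f : DRing.Cx A) ⊗ Koszul.koszul A g ≅ Koszul.koszul A (f ++ g))
  | [] => ⟨λ_ (Koszul.koszul A g : DRing.Cx A)⟩
  | a :: f => by
    obtain ⟨e⟩ := nonempty_iso A g f
    refine ⟨coneTensorIso (Koszul.koszul A f) (Koszul.koszul A g) a ≪≫
      { hom := mappingCone.map _ _ e.hom e.hom (by simp)
        inv := mappingCone.map _ _ e.inv e.inv (by simp)
        hom_inv_id := (mappingCone.map_comp ..).symm.trans (by simp [mappingCone.map_id])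
        inv_hom_id := (mappingCone.map_comp ..).symm.trans (by simp [mappingCone.map_id]; rfl) }⟩

end GrothLib.KoszulTensor
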