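import Groth.Prelude.Def_Koszul
import Groth.Agent.Lib.KoszulColon.Basic
import Mathlib.Algebra.Homology.ShortComplex.ModuleCat

/-! # The Koszul complex of a sequence scaled by a fixed element -/

set_option autoImplicit false
universe u

open CategoryTheory CategoryTheory.Limits CochainComplex
open CochainComplex.HomComplex

namespace GrothLib.KoszulTensor

variable {A : Type u} [CommRing A] (x : A)

/-- A complex with every differential scaled by `x`. -/
noncomputable def scale (K : CochainComplex (ModuleCat.{u} A) ℤ) : CochainComplex (ModuleCat.{u} A) ℤ where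
  X := K.X
  d i j := x • K.d i j
  shape i j h := by rw [K.shape i j h, smul_zero]
  d_comp_d' i j k _ _ := by simp

variable (K : CochainComplex (ModuleCat.{u} A) ℤ) (a : A)

noncomputable def scaleα : Cochain (scale x K) (scale x (mappingCone (a • 𝟙 K))) (-1) :=
  Cochain.mk fun p q hpq => (mappingCone.inl (a • 𝟙 K)).v p q hpq

noncomputable def scaleβ : scale x K ⟶ scale x (mappingCone (a • 𝟙 K)) where
  f i := (mappingCone.inr (a • 𝟙 K)).f i
  comm' i j _ := by
    show (mappingCone.inr (a • 𝟙 K)).f i ≫ (x • (mappingCone (a • 𝟙 K)).d i j) =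
      (x • K.d i j) ≫ (mappingCone.inr (a • 𝟙 K)).f j
    rw [Linear.comp_smul, Linear.smul_comp, (mappingCone.inr (a • 𝟙 K)).comm]

lemma δ_scaleα : δ (-1) 0 (scaleα x K a) =
    Cochain.ofHom (((x * a) • 𝟙 (scale x K)) ≫ scaleβ x K a) := by
  refine Cochain.ext₀ _ _ fun n => ?_
  rw [Cochain.ofHom_v, δ_v (-1) 0 (by omega) _ n n (by omega) (n - 1) (n + 1) rfl rfl]
  show (mappingCone.inl (a • 𝟙 K)).v n (n - 1) (by omega) ≫ (x • (mappingCone (a • 𝟙 K)).d (n - 1) n) +
      (0 : ℤ).negOnePow • ((x • K.d n (n + 1)) ≫ (mappingCone.inl (a • 𝟙 K)).v (n + 1) n (by omega)) =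
      ((x * a) • 𝟙 (K.X n)) ≫ (mappingCone.inr (a • 𝟙 K)).f n
  rw [Int.negOnePow_zero, one_smul, Linear.comp_smul, Linear.smul_comp,
    mappingCone.inl_v_d (a • 𝟙 K) n (n - 1) (n + 1) (by omega) (by omega)]
  simp [smul_sub, smul_smul]

noncomputable def scaleCompare :
    mappingCone ((x * a) • 𝟙 (scale x K)) ⟶ scale x (mappingCone (a • 𝟙 K)) :=
  mappingCone.desc _ (scaleα x K a) (scaleβ x K a) (δ_scaleα x K a)

noncomputable def scaleBack (n : ℤ) :
    (scale x (mappingCone (a • 𝟙 K))).X n ⟶ (mappingCone ((x * a) • 𝟙 (scale x K))).X n :=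
  (mappingCone.fst (a • 𝟙 K)).1.v n (n + 1) rfl ≫
      (mappingCone.inl ((x * a) • 𝟙 (scale x K))).v (n + 1) n (by omega) +
    (mappingCone.snd (a • 𝟙 K)).v n n (add_zero n) ≫ (mappingCone.inr ((x * a) • 𝟙 (scale x K))).f n

lemma scaleBack_compare (n : ℤ) : scaleBack x K a n ≫ (scaleCompare x K a).f n = 𝟙 _ := by
  refine (Preadditive.add_comp _ _ _ _ _ _).trans (Eq.trans ?_ (mappingCone.id_X (a • 𝟙 K) n (n + 1) rfl))
  exact congrArg₂ (· + ·)
    ((Category.assoc _ _ _).trans (congrArg (_ ≫ ·)
      (mappingCone.inl_v_desc_f _ (scaleα x K a) (scaleβ x K a) (δ_scaleα x K a) (n + 1) n (by omega))))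
    ((Category.assoc _ _ _).trans (congrArg (_ ≫ ·)
      (mappingCone.inr_f_desc_f _ (scaleα x K a) (scaleβ x K a) (δ_scaleα x K a) n)))

lemma scaleCompare_back (n : ℤ) : (scaleCompare x K a).f n ≫ scaleBack x K a n = 𝟙 _ := by
  refine mappingCone.ext_from _ (n + 1) n rfl ?_ ?_
  · rw [scaleCompare, mappingCone.inl_v_desc_f_assoc, Category.comp_id]
    exact (Preadditive.comp_add _ _ _ _ _ _).trans ((congrArg₂ (· + ·)
      ((Category.assoc _ _ _).symm.trans ((congrArg (· ≫ _)
        (mappingCone.inl_v_fst_v (a • 𝟙 K) (n + 1) n (by omega))).trans (Category.id_comp _)))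
      ((Category.assoc _ _ _).symm.trans ((congrArg (· ≫ _)
        (mappingCone.inl_v_snd_v (a • 𝟙 K) (n + 1) n (by omega))).trans zero_comp))).trans (add_zero _))
  · rw [scaleCompare, mappingCone.inr_f_desc_f_assoc, Category.comp_id]
    exact (Preadditive.comp_add _ _ _ _ _ _).trans ((congrArg₂ (· + ·)
      ((Category.assoc _ _ _).symm.trans ((congrArg (· ≫ _)
        (mappingCone.inr_f_fst_v (a • 𝟙 K) n (n + 1) rfl)).trans zero_comp))
      ((Category.assoc _ _ _).symm.trans ((congrArg (· ≫ _)
        (mappingCone.inr_f_snd_v (a • 𝟙 K) n)).trans (Category.id_comp _)))).trans (zero_add _))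

/-- Scaling the sequence scales the differentials. -/
theorem nonempty_scaleIso : ∀ l : List A,
    Nonempty (Koszul.koszul A (l.map fun f => x * f) ≅ scale x (Koszul.koszul A l))
  | [] => ⟨HomologicalComplex.Hom.isoOfComponents (fun _ => Iso.refl _) fun i j _ => by
      have hd : (Koszul.koszul A ([] : List A)).d i j = 0 :=
        HomologicalComplex.single_obj_d (ComplexShape.up ℤ) 0 (ModuleCat.of A A) i j
      show 𝟙 _ ≫ (x • (Koszul.koszul A ([] : List A)).d i j) = (Koszul.koszul A ([] : List A)).d i j ≫ 𝟙 _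
      rw [hd, smul_zero, comp_zero, zero_comp]⟩
  | a :: l => by
    obtain ⟨e⟩ := nonempty_scaleIso l
    refine ⟨({ hom := mappingCone.map _ _ e.hom e.hom (by simp)
               inv := mappingCone.map _ _ e.inv e.inv (by simp)
               hom_inv_id := (mappingCone.map_comp ..).symm.trans (by simp [mappingCone.map_id]; rfl)
               inv_hom_id := (mappingCone.map_comp ..).symm.trans (by simp [mappingCone.map_id]) } :
        Koszul.koszul A ((a :: l).map fun f => x * f) ≅
          mappingCone ((x * a) • 𝟙 (scale x (Koszul.koszul A l)))) ≪≫ ?_⟩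
    exact HomologicalComplex.Hom.isoOfComponents
      (fun n => ({ hom := (scaleCompare x _ a).f n, inv := scaleBack x _ a n,
                   hom_inv_id := scaleCompare_back x _ a n, inv_hom_id := scaleBack_compare x _ a n } :
        (mappingCone ((x * a) • 𝟙 (scale x (Koszul.koszul A l)))).X n ≅
          (scale x (Koszul.koszul A (a :: l))).X n))
      fun i j _ => (scaleCompare x (Koszul.koszul A l) a).comm i j

lemma smul_injective_koszul (hx : x ∈ nonZeroDivisors A) (l : List A) (i : ℤ) :
    Function.Injective fun z : (Koszul.koszul A l).X i => x • z := by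
  have hf := GrothLib.KoszulColon.free_kc (LinearMap.id : Module.Dual A A) l i
  rw [show GrothLib.KoszulColon.kc (LinearMap.id : Module.Dual A A) l = Koszul.koszul A l by
    unfold GrothLib.KoszulColon.kc; simp] at hf
  intro z w h
  let b := Module.Free.chooseBasis A ((Koszul.koszul A l).X i)
  refine b.repr.injective (Finsupp.ext fun k => ?_)
  have h2 : x • b.repr z = x • b.repr w := by rw [← map_smul, ← map_smul]; exact congrArg b.repr h
  have h3 : x * b.repr z k = x * b.repr w k := by simpa using congrArg (fun f => f k) h2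
  exact sub_eq_zero.1 ((mem_nonZeroDivisors_iff.1 hx).1 _ (by rw [mul_sub, h3, sub_self]))

/-- Cohomology of the Koszul complex of the scaled sequence. -/
theorem nonempty_homology_scaled (l : List A) (hx : x ∈ nonZeroDivisors A) (q : ℤ) :
    Nonempty ((Koszul.koszul A (l.map (fun f => x * f))).homology q ≅
      ModuleCat.of A (↥(LinearMap.ker ((Koszul.koszul A l).d q (q + 1)).hom) ⧸
        Submodule.comap (LinearMap.ker ((Koszul.koszul A l).d q (q + 1)).hom).subtype
          (Ideal.span {x} • LinearMap.range ((Koszul.koszul A l).d (q - 1) q).hom))) := by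
  obtain ⟨e⟩ := nonempty_scaleIso x l
  let K := Koszul.koszul A l
  let S := (scale x K).sc' (q - 1) q (q + 1)
  have hg : ∀ z : K.X q, S.g.hom z = x • (K.d q (q + 1)).hom z := fun z => rfl
  have hker : LinearMap.ker S.g.hom = LinearMap.ker (K.d q (q + 1)).hom := by
    refine SetLike.ext fun z => ?_
    exact ⟨fun h => smul_injective_koszul x hx l (q + 1) (show x • (K.d q (q + 1)).hom z = x • (0 : K.X (q + 1)) from ((hg z).symm.trans h).trans (smul_zero (A := K.X (q + 1)) x).symm),
      fun h => (hg z).trans ((congrArg (fun t : K.X (q + 1) => x • t) (show (K.d q (q + 1)).hom z = 0 from h)).trans (smul_zero x))⟩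
  refine ⟨(HomologicalComplex.homologyFunctor _ _ q).mapIso e ≪≫
    (scale x K).homologyIsoSc' (q - 1) q (q + 1) (by simp) (by simp) ≪≫ S.moduleCatHomologyIso ≪≫
    LinearEquiv.toModuleIso (Submodule.Quotient.equiv _ _ (LinearEquiv.ofEq _ _ hker) ?_)⟩
  ext z
  simp only [Submodule.mem_map, LinearMap.mem_range, Submodule.mem_comap, Submodule.ideal_span_singleton_smul,
    Submodule.mem_smul_pointwise_iff_exists]
  constructor
  · rintro ⟨w, ⟨v, rfl⟩, rfl⟩
    exact ⟨_, ⟨v, rfl⟩, rfl⟩
  · rintro ⟨w, ⟨v, rfl⟩, hw⟩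
    exact ⟨_, ⟨v, rfl⟩, Subtype.ext hw⟩

end GrothLib.KoszulTensor
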